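import Cfsg.Agent.Lib.Fus.Goldschmidt.SingleLocal
import Cfsg.Agent.Lib.Classical.UnitMultCentral

/-!
# An element centralising an abelian Sylow subgroup of a component

It acts on the component as an element of that subgroup.
-/

set_option autoImplicit false
set_option linter.style.haveILetI false
set_option linter.unusedSectionVars false

namespace Cfsg.Agent.Invol.UnitarySylow

open Subgroup Cfsg.Agent.Grp
open scoped commutatorElement Pointwise

universe u

variable {X : Type u} [Group X] [Finite X]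

theorem component_core_eq_bot (hO : Cfsg.pPrimeCore 2 X = ⊥) {K : Subgroup X} (hK : Cfsg.IsComponent K) :
    Cfsg.pPrimeCore 2 ↥K = ⊥ := by
  haveI : Fact (Nat.Prime 2) := ⟨Nat.prime_two⟩
  haveI : (Cfsg.pPrimeCore 2 ↥K).Normal := pPrimeCore_isNormal
  have hsub : ((Cfsg.pPrimeCore 2 ↥K).map K.subtype).IsSubnormal :=
    (Subgroup.Normal.isSubnormal inferInstance).trans' hK.1
  have h1 := le_pPrimeCore_of_isSubnormal (p := 2) hsub
    (by rw [card_map_of_injective K.subtype_injective]; exact pPrimeCore_coprime)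
  rw [hO, le_bot_iff] at h1
  exact (map_eq_bot_iff_of_injective _ K.subtype_injective).1 h1

/-- An element of `T` normalising a component with abelian Sylow subgroup and centralising the latter is the
product of an element of it and an element centralising the component. -/
theorem abelian_decomp (hO : Cfsg.pPrimeCore 2 X = ⊥) (T : Sylow 2 X) {K : Subgroup X} (hK : Cfsg.IsComponent K)
    (hab : ∀ a ∈ (T : Subgroup X) ⊓ K, ∀ b ∈ (T : Subgroup X) ⊓ K, a * b = b * a) {t : X}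
    (ht : t ∈ (T : Subgroup X)) (htK : t ∈ normalizer (K : Set X))
    (htc : ∀ a ∈ (T : Subgroup X) ⊓ K, t * a = a * t) :
    ∃ e ∈ (T : Subgroup X) ⊓ K, ∃ c ∈ (T : Subgroup X) ⊓ centralizer (K : Set X), e * c = t := by
  classical
  haveI : Fact (Nat.Prime 2) := ⟨Nat.prime_two⟩
  have hcore := component_core_eq_bot hO hK
  set J := K ⊔ zpowers t with hJ
  have hKJ : K ≤ J := le_sup_left
  have htJ : t ∈ J := mem_sup_right (mem_zpowers t)
  have hJN : J ≤ normalizer (K : Set X) := sup_le Subgroup.le_normalizer (zpowers_le.2 htK)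
  have hJmem : ∀ j ∈ J, ∃ k ∈ K, ∃ i : ℤ, j = k * t ^ i := by
    intro j hj
    have hj' : j ∈ ((K ⊔ zpowers t : Subgroup X) : Set X) := hj
    rw [coe_mul_of_right_le_normalizer_left _ _ (zpowers_le.2 htK)] at hj'
    obtain ⟨k, hk, z, hz, rfl⟩ := hj'
    obtain ⟨i, rfl⟩ := mem_zpowers_iff.1 hz
    exact ⟨k, hk, i, rfl⟩
  have hp : IsPGroup 2 ((T : Subgroup X).subgroupOf J) := T.isPGroup'.comap_of_injective _ (subtype_injective _)
  have hidx : ¬ 2 ∣ (T : Subgroup X).relIndex J := by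
    have hsup : ((T : Subgroup X) ⊓ J) ⊔ K = J := le_antisymm (sup_le inf_le_right hKJ)
      (sup_le le_sup_right (zpowers_le.2 (mem_sup_left ⟨ht, htJ⟩)))
    have h1 := card_sup_mul_card_inf (H := (T : Subgroup X) ⊓ J) (N := K) (inf_le_right.trans hJN)
    rw [hsup, inf_assoc, inf_eq_right.2 hKJ] at h1
    have h2 := card_mul_relIndex (inf_le_right : (T : Subgroup X) ⊓ J ≤ J)
    have h3 := card_mul_relIndex (inf_le_right : (T : Subgroup X) ⊓ K ≤ K)
    rw [inf_relIndex_right] at h2 h3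
    rw [← h2, ← h3] at h1
    have h4 : (T : Subgroup X).relIndex J = (T : Subgroup X).relIndex K := by
      refine Nat.eq_of_mul_eq_mul_left (Nat.mul_pos (Nat.card_pos (α := ↥((T : Subgroup X) ⊓ J)))
        (Nat.card_pos (α := ↥((T : Subgroup X) ⊓ K)))) ?_
      linarith [h1]
    exact h4 ▸ not_dvd_relIndex_sylow T hK.1
  set P : Sylow 2 ↥J := hp.toSylow hidx
  have hform : ∀ n : ↥J, (n : X) ∈ (T : Subgroup X) → ∃ z ∈ (T : Subgroup X) ⊓ K, ∃ i : ℤ, (n : X) = z * t ^ i := by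
    intro n hn
    obtain ⟨k, hk, i, e⟩ := hJmem n n.2
    refine ⟨k, ⟨?_, hk⟩, i, e⟩
    have h5 : (n : X) * (t ^ i)⁻¹ ∈ (T : Subgroup X) := mul_mem hn (inv_mem (zpow_mem ht i))
    rwa [e, mul_inv_cancel_right] at h5
  have hcomm : IsMulCommutative ↥(P : Subgroup ↥J) := ⟨⟨fun a b => Subtype.ext (Subtype.ext (by
    obtain ⟨z, hz, i, ea⟩ := hform a a.2
    obtain ⟨w, hw, j, eb⟩ := hform b b.2
    show (a : X) * b = b * a
    have c2 : ∀ (m : ℤ) (v : X), v ∈ (T : Subgroup X) ⊓ K → Commute v (t ^ m) := fun m v hv =>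
      (show Commute v t from (htc v hv).symm).zpow_right m
    have h : Commute (z * t ^ i) (w * t ^ j) := ((show Commute z w from hab z hz w hw).mul_right (c2 j z hz)).mul_left
      (((c2 i w hw).symm).mul_right ((Commute.refl t).zpow_zpow i j))
    rw [ea, eb]; exact h))⟩⟩
  -- `t` is an element of `K` times an isolated element
  obtain ⟨-, hdec⟩ := Transfer.abelian_sylow_decomp P hcomm
  have hres : Cfsg.pResidual 2 ↥J ≤ K.subgroupOf J := by
    haveI : (K.subgroupOf J).Normal := (normal_subgroupOf_iff_le_normalizer hKJ).2 hJN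
    rw [Cfsg.pResidual, closure_le]
    intro g hg
    obtain ⟨k, hk, i, e⟩ := hJmem g g.2
    obtain ⟨m, hm⟩ := T.isPGroup' ⟨t, ht⟩
    have hm' : t ^ 2 ^ m = 1 := congrArg Subtype.val hm
    have hgq : (QuotientGroup.mk g : ↥J ⧸ K.subgroupOf J) = (QuotientGroup.mk (⟨t, htJ⟩ : ↥J)) ^ i := by
      rw [← QuotientGroup.mk_zpow, show g = ⟨k, hKJ hk⟩ * (⟨t, htJ⟩ : ↥J) ^ i from Subtype.ext (by simpa using e),
        QuotientGroup.mk_mul, (QuotientGroup.eq_one_iff _).2 (mem_subgroupOf.2 hk), one_mul]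
    have h2 : (QuotientGroup.mk g : ↥J ⧸ K.subgroupOf J) ^ 2 ^ m = 1 := by
      rw [hgq, ← zpow_natCast, ← zpow_mul, mul_comm, zpow_mul, zpow_natCast, ← QuotientGroup.mk_pow,
        show (⟨t, htJ⟩ : ↥J) ^ 2 ^ m = 1 from Subtype.ext hm', QuotientGroup.mk_one, one_zpow]
    refine (QuotientGroup.eq_one_iff g).1 (orderOf_eq_one_iff.1 ?_)
    exact Nat.eq_one_of_dvd_coprimes (Nat.Coprime.pow_right m hg)
      (orderOf_map_dvd (QuotientGroup.mk' (K.subgroupOf J)) g) (orderOf_dvd_of_pow_eq_one h2)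
  have htP : (⟨t, htJ⟩ : ↥J) ∈ (P : Subgroup ↥J) := ht
  obtain ⟨r, hr, c, hc, hrc⟩ := Fus.Gold.Single.mem_sup_comm (hdec htP) fun a ha b hb => congrArg Subtype.val
    (hcomm.is_comm.comm ⟨a, ha.1⟩ ⟨b, hb.1⟩)
  have hiso : Fus.IsoElt P c := by
    refine ⟨hc.1, fun g hg => ?_⟩
    obtain ⟨n, hn, e⟩ := Transfer.exists_normalizer_conj_of_abelian P hcomm hc.1 hg
    rw [← e, mul_inv_eq_iff_eq_mul]
    exact mem_centralizer_iff.1 hc.2 n hn
  refine ⟨r, ⟨hr.1, mem_subgroupOf.1 (hres hr.2)⟩, c, ⟨hc.1, ?_⟩, congrArg Subtype.val hrc⟩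
  refine mem_centralizer_iff.2 fun k hk => ?_
  have h1 := Fus.IsoElt.commutator_mem _ ↥J rfl P c hiso ⟨k, hKJ hk⟩
  set w := c * (⟨k, hKJ hk⟩ : ↥J) * c⁻¹ * (⟨k, hKJ hk⟩ : ↥J)⁻¹
  have hwK : w ∈ K.subgroupOf J := mem_subgroupOf.2 (K.mul_mem
    ((mem_normalizer_iff.1 (hJN c.2) k).1 hk) (K.inv_mem hk))
  have hw1 : w = 1 := by
    haveI : (Cfsg.pPrimeCore 2 ↥J).Normal := pPrimeCore_isNormal
    let f : ↥K →* ↥J := Subgroup.inclusion hKJ
    have h2 : (Cfsg.pPrimeCore 2 ↥J).comap f ≤ Cfsg.pPrimeCore 2 ↥K :=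
      le_pPrimeCore inferInstance (Nat.Coprime.coprime_dvd_left
        (card_comap_dvd_of_injective _ f (Subgroup.inclusion_injective hKJ)) pPrimeCore_coprime)
    have h3 := h2 (show (⟨(w : X), mem_subgroupOf.1 hwK⟩ : ↥K) ∈ (Cfsg.pPrimeCore 2 ↥J).comap f from h1)
    rw [hcore, mem_bot] at h3
    exact Subtype.ext (congrArg (fun v : ↥K => (v : X)) h3 :)
  have h4 : (c : X) * k * (c : X)⁻¹ * k⁻¹ = 1 := congrArg Subtype.val hw1
  rw [mul_inv_eq_one, mul_inv_eq_iff_eq_mul] at h4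
  exact h4.symm

end Cfsg.Agent.Invol.UnitarySylow
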