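import Cfsg.Agent.Lib.Invol.UnitarySylow.Shape
import Cfsg.Agent.Lib.Invol.UnitarySylow.Decomp
import Cfsg.Agent.Lib.Fus.Goldschmidt.Bender
import Cfsg.Agent.Lib.Fus.OddTransp.LineModels
import Cfsg.Agent.Lib.Invol.CentInt.CoverSz

/-!
# A component of a group with a Sylow 2-subgroup of `PSU(3, q)`

When the odd core is trivial and simple groups satisfy the strongly closed abelian conclusion, a component
contains the Sylow subgroup and is `PSU(3, q)`.
-/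

set_option autoImplicit false
set_option linter.style.haveILetI false
set_option linter.unusedSectionVars false

namespace Cfsg.Agent.Invol.UnitarySylow

open Subgroup Cfsg.Agent.Grp
open scoped commutatorElement Pointwise

universe u

variable {X : Type u} [Group X] [Finite X] {T : Sylow 2 X} {Z : Subgroup X} {q : ℕ}

/-- The hypotheses. -/
structure Hyp (T : Sylow 2 X) (Z : Subgroup X) (q : ℕ) : Prop where
  shape : Shape (T : Subgroup X) Z q
  core : Cfsg.pPrimeCore 2 X = ⊥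
  gold : ∀ (L : Type u) [Group L] [Finite L], IsSimpleGroup L → ¬ IsMulCommutative L → Fus.Gold.Conclusion L

namespace Hyp

variable (h : Hyp T Z q) {L : Subgroup X} (hL : Cfsg.IsComponent L)
include h hL

theorem cen_le : L ⊓ centralizer (L : Set X) ≤ (T : Subgroup X) := by
  haveI : Fact (Nat.Prime 2) := ⟨Nat.prime_two⟩
  refine (component_centralizer_inf_le_fitting hL).trans ?_
  rw [fitting_eq_pCore (p := 2) h.core]
  exact Grp.pCore_le_sylow T

omit h in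
theorem exists_sylow : ∃ P : Sylow 2 ↥L, (P : Subgroup ↥L) = (T : Subgroup X).subgroupOf L :=
  Fus.Gold.exists_sylow_component hL

theorem cen_trivial (hab : ∀ a ∈ (T : Subgroup X) ⊓ L, ∀ b ∈ (T : Subgroup X) ⊓ L, a * b = b * a) {c : X}
    (hc : c ∈ L ⊓ centralizer (L : Set X)) : c = 1 := by
  haveI : Fact (Nat.Prime 2) := ⟨Nat.prime_two⟩
  obtain ⟨P, hP⟩ := exists_sylow (T := T) hL
  have hcomm : IsMulCommutative ↥(P : Subgroup ↥L) := ⟨⟨fun a b => Subtype.ext (Subtype.ext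
    (hab _ ⟨mem_subgroupOf.1 (hP.le a.2), SetLike.coe_mem _⟩ _ ⟨mem_subgroupOf.1 (hP.le b.2), SetLike.coe_mem _⟩))⟩⟩
  have hcop : Nat.Coprime (Nat.card (P : Subgroup ↥L)) (P : Subgroup ↥L).index := P.card_coprime_index
  have h1 := Transfer.hall_inf_commutator_inf_center (P : Subgroup ↥L) hcomm hcop
  rw [hL.2.1.commutator_eq_top, inf_top_eq] at h1
  have h2 : (⟨c, hc.1⟩ : ↥L) ∈ (P : Subgroup ↥L) ⊓ center ↥L := by
    exact ⟨hP.ge (mem_subgroupOf.2 (h.cen_le hL hc)), (Fus.Gold.center_eq hL).ge (mem_subgroupOf.2 hc)⟩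
  rw [h1, mem_bot] at h2
  exact congrArg Subtype.val h2

theorem exists_ne_one : ∃ x ∈ (T : Subgroup X) ⊓ L, x ≠ 1 := by
  haveI : Fact (Nat.Prime 2) := ⟨Nat.prime_two⟩
  obtain ⟨P, hP⟩ := exists_sylow (T := T) hL
  obtain ⟨x, hx⟩ := ((P : Subgroup ↥L).ne_bot_iff_exists_ne_one).1
    (P.ne_bot_of_dvd_card (component_dvd h.core hL))
  exact ⟨x.1.1, ⟨mem_subgroupOf.1 (hP.le x.2), x.1.2⟩, fun e => hx (Subtype.ext (Subtype.ext e))⟩

/-- The Sylow subgroup normalises every component. -/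
theorem le_normalizer : (T : Subgroup X) ≤ normalizer (L : Set X) := by
  intro s hs
  rw [mem_normalizer_iff_smul]
  by_contra hne
  have hL' := IsComponent.conj hL s
  have hcom := IsComponent.commute hL hL' (Ne.symm hne)
  have hmem : ∀ x ∈ (T : Subgroup X) ⊓ L, s * x * s⁻¹ ∈ (T : Subgroup X) ∧ s * x * s⁻¹ ∈ MulAut.conj s • L ∧
      ∀ y ∈ (T : Subgroup X) ⊓ L, y * (s * x * s⁻¹) = s * x * s⁻¹ * y := by
    intro x hx
    have h1 : s * x * s⁻¹ ∈ MulAut.conj s • L := by rw [← map_conj_eq_smul]; exact ⟨x, hx.2, rfl⟩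
    exact ⟨mul_mem (mul_mem hs hx.1) (inv_mem hs), h1, fun y hy => (mem_centralizer_iff.1 (hcom hy.2) _ h1).symm⟩
  have hab : ∀ a ∈ (T : Subgroup X) ⊓ L, ∀ b ∈ (T : Subgroup X) ⊓ L, a * b = b * a := by
    intro a ha b hb
    by_cases haZ : a ∈ Z
    · exact (h.shape.central b hb.1 a haZ).symm
    · obtain ⟨ha1, -, ha3⟩ := hmem a ha
      obtain ⟨hb1, -, hb3⟩ := hmem b hb
      have h2 := h.shape.cen_comm a ha.1 haZ _ ha1 _ hb1 (ha3 a ha) (hb3 a ha)
      refine (MulAut.conj s).injective ?_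
      show s * (a * b) * s⁻¹ = s * (b * a) * s⁻¹
      calc s * (a * b) * s⁻¹ = s * a * s⁻¹ * (s * b * s⁻¹) := by group
        _ = s * b * s⁻¹ * (s * a * s⁻¹) := h2
        _ = _ := by group
  obtain ⟨x, hx, hx1⟩ := h.exists_ne_one hL
  obtain ⟨h1, h1', h3⟩ := hmem x hx
  set x' := s * x * s⁻¹ with hx'
  have hw : x' * x⁻¹ ∈ Z := by
    rw [hx', show s * x * s⁻¹ * x⁻¹ = ⁅s, x⁆ by rw [commutatorElement_def]]
    exact h.shape.comm s hs x hx.1
  have hsq : x' * x' = x * x := by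
    have h4 : x' * x⁻¹ * (x' * x⁻¹) = 1 := (h.shape.mem_iff _ (h.shape.le hw)).2 hw
    have c : Commute x x' := h3 x hx
    have h5 : x' * x' * (x * x)⁻¹ = 1 := by
      refine Eq.trans ?_ h4
      calc x' * x' * (x * x)⁻¹ = x' * (x' * x⁻¹) * x⁻¹ := by group
        _ = x' * (x⁻¹ * x') * x⁻¹ := by rw [c.inv_left.eq]
        _ = _ := by group
    exact mul_inv_eq_one.1 h5
  have hx2 : x * x = 1 := h.cen_trivial hL hab
    ⟨L.mul_mem hx.2 hx.2, mem_centralizer_iff.2 fun l hl => by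
      rw [← hsq]
      have c : Commute l x' := (mem_centralizer_iff.1 (hcom hl) x' h1').symm
      exact (c.mul_right c).eq⟩
  have hxZ : x ∈ Z := (h.shape.mem_iff x hx.1).1 hx2
  have heq : x' = x := by rw [hx', h.shape.central s hs x hxZ, mul_inv_cancel_right]
  refine hx1 (h.cen_trivial hL hab ⟨hx.2, mem_centralizer_iff.2 fun l hl => ?_⟩)
  rw [← heq]
  exact (mem_centralizer_iff.1 (hcom hl) x' h1').symm

theorem mem_conj {x : X} (hx : x ∈ (T : Subgroup X) ⊓ L) {t : X} (ht : t ∈ (T : Subgroup X)) :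
    t * x * t⁻¹ ∈ (T : Subgroup X) ⊓ L :=
  ⟨(T : Subgroup X).mul_mem ((T : Subgroup X).mul_mem ht hx.1) ((T : Subgroup X).inv_mem ht), (mem_normalizer_iff.1 (h.le_normalizer hL ht) x).1 hx.2⟩

theorem not_le_Z : ¬ (T : Subgroup X) ⊓ L ≤ Z := by
  intro hle
  have hab : ∀ a ∈ (T : Subgroup X) ⊓ L, ∀ b ∈ (T : Subgroup X) ⊓ L, a * b = b * a := fun a ha b hb =>
    h.shape.central a ha.1 b (hle hb)
  have hZC : Z ≤ centralizer (L : Set X) := by
    intro z hz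
    obtain ⟨t, ht, rfl⟩ := h.shape.sqrt z hz
    obtain ⟨e, he, c, hc, hec⟩ := abelian_decomp h.core T hL hab ht (h.le_normalizer hL ht)
      fun a ha => h.shape.central t ht a (hle ha)
    have he2 : e * e = 1 := (h.shape.mem_iff e he.1).2 (hle he)
    have c1 : Commute c e := (h.shape.central c hc.1 e (hle he))
    rw [← hec, show e * c * (e * c) = e * (c * e) * c by group, c1.eq, show e * (e * c) * c = e * e * (c * c) by group,
      he2, one_mul]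
    exact mul_mem hc.2 hc.2
  obtain ⟨x, hx, hx1⟩ := h.exists_ne_one hL
  exact hx1 (h.cen_trivial hL hab ⟨hx.2, hZC (hle hx)⟩)

theorem Z_le : Z ≤ (T : Subgroup X) ⊓ L := by
  obtain ⟨x, hx, hxZ⟩ := SetLike.not_le_iff_exists.1 (h.not_le_Z hL)
  intro z hz
  obtain ⟨y, hy, rfl⟩ := h.shape.full x hx.1 hxZ z hz
  have h1 := Subgroup.mul_mem _ hx (h.mem_conj hL (((T : Subgroup X) ⊓ L).inv_mem hx) hy)
  rwa [show x * (y * x⁻¹ * y⁻¹) = ⁅x, y⁆ by rw [commutatorElement_def]; group] at h1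

theorem cen_le_Z : L ⊓ centralizer (L : Set X) ≤ Z := by
  intro c hc
  by_contra hcZ
  have hcT := h.cen_le hL hc
  have hab : ∀ a ∈ (T : Subgroup X) ⊓ L, ∀ b ∈ (T : Subgroup X) ⊓ L, a * b = b * a := fun a ha b hb =>
    h.shape.cen_comm c hcT hcZ a ha.1 b hb.1 (mem_centralizer_iff.1 hc.2 a ha.2).symm
      (mem_centralizer_iff.1 hc.2 b hb.2).symm
  exact hcZ (h.cen_trivial hL hab hc ▸ Z.one_mem)

theorem center_coe {k : ↥L} : k ∈ center ↥L ↔ (k : X) ∈ centralizer (L : Set X) := by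
  rw [Fus.Gold.center_eq hL, mem_subgroupOf]
  exact ⟨fun hk => hk.2, fun hk => ⟨k.2, hk⟩⟩

/-- `Z` is not the centre of `L`. -/
theorem Z_not_le_centralizer : ¬ Z ≤ centralizer (L : Set X) := by
  intro hZC
  haveI : Fact (Nat.Prime 2) := ⟨Nat.prime_two⟩
  haveI := hL.2.2
  obtain ⟨P₀, hP₀⟩ := exists_sylow (T := T) hL
  set π := QuotientGroup.mk' (center ↥L) with hπ
  have hmemP₀ : ∀ k : ↥L, k ∈ (P₀ : Subgroup ↥L) ↔ (k : X) ∈ (T : Subgroup X) := fun k => by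
    rw [hP₀, mem_subgroupOf]
  set P : Sylow 2 (↥L ⧸ center ↥L) := P₀.mapSurjective (f := π) (QuotientGroup.mk'_surjective _)
  have hPmem : ∀ a, a ∈ (P : Subgroup (↥L ⧸ center ↥L)) ↔ ∃ k : ↥L, (k : X) ∈ (T : Subgroup X) ∧ π k = a :=
    fun a => ⟨fun ⟨k, hk, e⟩ => ⟨k, (hmemP₀ k).1 hk, e⟩, fun ⟨k, hk, e⟩ => ⟨k, (hmemP₀ k).2 hk, e⟩⟩
  have hone : ∀ k : ↥L, π k = 1 ↔ (k : X) ∈ centralizer (L : Set X) := fun k => by
    rw [hπ, QuotientGroup.mk'_apply, QuotientGroup.eq_one_iff, h.center_coe hL]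
  have hel : Cfsg.IsElementaryAbelian 2 (P : Subgroup (↥L ⧸ center ↥L)) := by
    refine ⟨⟨⟨?_⟩⟩, ?_⟩
    · rintro ⟨a, ha⟩ ⟨b, hb⟩
      obtain ⟨k, hk, rfl⟩ := (hPmem a).1 ha
      obtain ⟨l, hl, rfl⟩ := (hPmem b).1 hb
      refine Subtype.ext ?_
      show π k * π l = π l * π k
      rw [← commutatorElement_eq_one_iff_mul_comm, ← map_commutatorElement, hone]
      exact hZC (h.shape.comm k hk l hl)
    · intro a ha
      obtain ⟨k, hk, rfl⟩ := (hPmem a).1 ha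
      rw [← map_pow, hone, pow_two]
      exact hZC (h.shape.sq k hk)
  have hne : (P : Subgroup (↥L ⧸ center ↥L)) ≠ ⊥ := fun e => h.not_le_Z hL fun x hx => by
    have h1 : π ⟨x, hx.2⟩ = 1 := mem_bot.1 (e ▸ (hPmem _).2 ⟨⟨x, hx.2⟩, hx.1, rfl⟩)
    exact h.cen_le_Z hL ⟨hx.2, (hone _).1 h1⟩
  obtain ⟨-, -, -, htr⟩ := h.gold (↥L ⧸ center ↥L) inferInstance (Fus.Gold.not_comm_quotient hL) P _ hne hel
    ⟨le_rfl, fun _ _ _ hg => hg⟩
  obtain ⟨x₀, hx₀, hx₀Z⟩ := SetLike.not_le_iff_exists.1 (h.not_le_Z hL)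
  -- all non-central elements have the same square
  have hsqeq : ∀ x ∈ (T : Subgroup X) ⊓ L, x ∉ Z → x * x = x₀ * x₀ := by
    intro x hx hxZ
    have hne1 : ∀ y (hy : y ∈ (T : Subgroup X) ⊓ L), y ∉ Z → π ⟨y, hy.2⟩ ≠ 1 := fun y hy hyZ e =>
      hyZ (h.cen_le_Z hL ⟨hy.2, (hone _).1 e⟩)
    obtain ⟨n, -, hn⟩ := htr _ ((hPmem _).2 ⟨⟨x₀, hx₀.2⟩, hx₀.1, rfl⟩) _ ((hPmem _).2 ⟨⟨x, hx.2⟩, hx.1, rfl⟩)
      (hne1 x₀ hx₀ hx₀Z) (hne1 x hx hxZ)
    obtain ⟨n, rfl⟩ := QuotientGroup.mk'_surjective (center ↥L) n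
    rw [← map_inv, ← map_mul, ← map_mul] at hn
    set c : ↥L := (n * ⟨x₀, hx₀.2⟩ * n⁻¹)⁻¹ * ⟨x, hx.2⟩ with hc
    have hcC : c ∈ center ↥L := QuotientGroup.eq.1 hn
    have hcc : c * c = 1 := by
      have h1 := h.cen_le_Z hL ⟨c.2, (h.center_coe hL).1 hcC⟩
      exact Subtype.ext ((h.shape.mem_iff _ (h.shape.le h1)).2 h1)
    have hx0c : (⟨x₀, hx₀.2⟩ : ↥L) * ⟨x₀, hx₀.2⟩ ∈ center ↥L :=
      (h.center_coe hL).2 (hZC (h.shape.sq x₀ hx₀.1))
    have hxeq : (⟨x, hx.2⟩ : ↥L) = n * ⟨x₀, hx₀.2⟩ * n⁻¹ * c := by rw [hc, mul_inv_cancel_left]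
    have h2 : (⟨x, hx.2⟩ : ↥L) * ⟨x, hx.2⟩ = ⟨x₀, hx₀.2⟩ * ⟨x₀, hx₀.2⟩ := by
      rw [hxeq]
      set w : ↥L := n * ⟨x₀, hx₀.2⟩ * n⁻¹
      calc w * c * (w * c) = w * (c * w) * c := by group
        _ = w * (w * c) * c := by rw [(mem_center_iff.1 hcC w).symm]
        _ = w * w * (c * c) := by group
        _ = n * (⟨x₀, hx₀.2⟩ * ⟨x₀, hx₀.2⟩) * n⁻¹ := by
          rw [hcc, mul_one]
          show n * ⟨x₀, hx₀.2⟩ * n⁻¹ * (n * ⟨x₀, hx₀.2⟩ * n⁻¹) = _
          group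
        _ = _ := by rw [mem_center_iff.1 hx0c n, mul_inv_cancel_right]
    exact congrArg Subtype.val h2
  set e := x₀ * x₀
  have hsq' : ∀ x ∈ (T : Subgroup X) ⊓ L, x * x ∈ zpowers e := fun x hx => by
    by_cases hxZ : x ∈ Z
    · rw [(h.shape.mem_iff x hx.1).2 hxZ]; exact one_mem _
    · rw [hsqeq x hx hxZ]; exact mem_zpowers e
  have hder : ⁅(T : Subgroup X) ⊓ L, (T : Subgroup X) ⊓ L⁆ ≤ zpowers e := by
    rw [commutator_le]
    intro x hx y hy
    have hxy := Subgroup.mul_mem _ hx hy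
    have c : Commute (x * x) (y⁻¹) := ((h.shape.central _ (inv_mem hy.1) _ (h.shape.sq x hx.1))).symm
    rw [show ⁅x, y⁆ = x * y * (x * y) * (y⁻¹ * (x * x)⁻¹ * y⁻¹) by rw [commutatorElement_def]; group,
      ← c.inv_left.eq, show (x * x)⁻¹ * y⁻¹ * y⁻¹ = (x * x)⁻¹ * (y * y)⁻¹ by group]
    exact mul_mem (hsq' _ hxy) (mul_mem (inv_mem (hsq' x hx)) (inv_mem (hsq' y hy)))
  have hZder : Z ≤ zpowers e := by
    intro z hz
    have hzL := h.Z_le hL hz
    have hzc : (⟨z, hzL.2⟩ : ↥L) ∈ center ↥L := (h.center_coe hL).2 (hZC hz)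
    have hord : (orderOf (⟨z, hzL.2⟩ : ↥L)).Coprime (P₀ : Subgroup ↥L).index := by
      have h2 : orderOf (⟨z, hzL.2⟩ : ↥L) ∣ 2 := orderOf_dvd_of_pow_eq_one (Subtype.ext (by
        rw [SubmonoidClass.coe_pow, pow_two]; exact (h.shape.mem_iff z hzL.1).2 hz))
      exact Nat.Coprime.coprime_dvd_left h2 ((Nat.Prime.coprime_iff_not_dvd Nat.prime_two).2 P₀.not_dvd_index)
    have h1 := Classical.UnitMult.mem_derived_of_transfer (P₀ : Subgroup ↥L) hzc ((hmemP₀ _).2 hzL.1)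
      (hL.2.1.commutator_eq_top ▸ mem_top _) hord
    have h2 := mem_map_of_mem L.subtype h1
    rw [map_commutator, hP₀, subgroupOf_map_subtype] at h2
    exact hder h2
  have h2 := card_le_of_le hZder
  rw [h.shape.cardZ, Nat.card_zpowers] at h2
  have h3 : orderOf e ≤ 2 := Nat.le_of_dvd two_pos (orderOf_dvd_of_pow_eq_one (by
    rw [pow_two]
    exact (h.shape.mem_iff e (h.shape.le (h.shape.sq x₀ hx₀.1))).2 (h.shape.sq x₀ hx₀.1)))
  have := h.shape.eight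
  omega

/-- The centre of `L` is trivial and `L` is a group of Bender's theorem. -/
theorem bender : center ↥L = ⊥ ∧ Invol.CentInt.IsBenderGrp ↥L := by
  haveI : Fact (Nat.Prime 2) := ⟨Nat.prime_two⟩
  haveI := hL.2.2
  obtain ⟨P₀, hP₀⟩ := exists_sylow (T := T) hL
  set π := QuotientGroup.mk' (center ↥L) with hπ
  have hmemP₀ : ∀ k : ↥L, k ∈ (P₀ : Subgroup ↥L) ↔ (k : X) ∈ (T : Subgroup X) := fun k => by
    rw [hP₀, mem_subgroupOf]
  set P : Sylow 2 (↥L ⧸ center ↥L) := P₀.mapSurjective (f := π) (QuotientGroup.mk'_surjective _)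
  have hone : ∀ k : ↥L, π k = 1 ↔ (k : X) ∈ centralizer (L : Set X) := fun k => by
    rw [hπ, QuotientGroup.mk'_apply, QuotientGroup.eq_one_iff, h.center_coe hL]
  have hback : ∀ k : ↥L, π k ∈ (P : Subgroup (↥L ⧸ center ↥L)) → (k : X) ∈ (T : Subgroup X) := by
    rintro k ⟨l, hl, e⟩
    have h1 : l⁻¹ * k ∈ center ↥L := QuotientGroup.eq.1 e
    have h2 := h.cen_le hL ⟨(l⁻¹ * k).2, (h.center_coe hL).1 h1⟩
    have h3 := mul_mem ((hmemP₀ l).1 hl) h2
    simpa using h3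
  set Zq : Subgroup (↥L ⧸ center ↥L) := (Z.subgroupOf L).map π
  have hne : Zq ≠ ⊥ := fun e => h.Z_not_le_centralizer hL fun z hz =>
    (hone ⟨z, (h.Z_le hL hz).2⟩).1 (mem_bot.1 (e ▸ mem_map_of_mem π (mem_subgroupOf.2 hz)))
  have hel : Cfsg.IsElementaryAbelian 2 Zq := by
    refine ⟨⟨⟨?_⟩⟩, ?_⟩
    · rintro ⟨_, a, ha, rfl⟩ ⟨_, b, hb, rfl⟩
      refine Subtype.ext ?_
      show π a * π b = π b * π a
      rw [← map_mul, ← map_mul]
      exact congrArg π (Subtype.ext (h.shape.central a (h.shape.le (mem_subgroupOf.1 ha)) b (mem_subgroupOf.1 hb)))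
    · rintro _ ⟨a, ha, rfl⟩
      rw [← map_pow, show a ^ 2 = 1 from Subtype.ext (by
        rw [SubmonoidClass.coe_pow, pow_two]
        exact (h.shape.mem_iff a (h.shape.le (mem_subgroupOf.1 ha))).2 (mem_subgroupOf.1 ha)), map_one]
  have hZP : Zq ≤ (P : Subgroup (↥L ⧸ center ↥L)) := by
    rintro _ ⟨a, ha, rfl⟩
    exact ⟨a, (hmemP₀ a).2 (h.shape.le (mem_subgroupOf.1 ha)), rfl⟩
  have hsc : Cfsg.IsStronglyClosed Zq (P : Subgroup (↥L ⧸ center ↥L)) := by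
    refine ⟨hZP, ?_⟩
    rintro _ ⟨a, ha, rfl⟩ g hg
    obtain ⟨g, rfl⟩ := QuotientGroup.mk'_surjective (center ↥L) g
    rw [← map_inv, ← map_mul, ← map_mul] at hg ⊢
    refine mem_map_of_mem π (mem_subgroupOf.2 ((h.shape.mem_iff _ (hback _ hg)).1 ?_))
    have h1 : (a : X) * a = 1 := (h.shape.mem_iff a (h.shape.le (mem_subgroupOf.1 ha))).2 (mem_subgroupOf.1 ha)
    simp only [Subgroup.coe_mul, Subgroup.coe_inv]
    calc (g : X) * a * (g : X)⁻¹ * ((g : X) * a * (g : X)⁻¹) = (g : X) * ((a : X) * a) * (g : X)⁻¹ := by group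
      _ = 1 := by rw [h1]; group
  obtain ⟨hSE, -, -, -⟩ := h.gold (↥L ⧸ center ↥L) inferInstance (Fus.Gold.not_comm_quotient hL) P _ hne hel hsc
  have hPne : (P : Subgroup (↥L ⧸ center ↥L)) ≠ Zq := by
    intro e
    refine h.not_le_Z hL fun x hx => ?_
    obtain ⟨z, hz, hzx⟩ := e.le ⟨⟨x, hx.2⟩, (hmemP₀ ⟨x, hx.2⟩).2 hx.1, rfl⟩
    have h1 : z⁻¹ * ⟨x, hx.2⟩ ∈ center ↥L := QuotientGroup.eq.1 hzx
    have h2 := h.cen_le_Z hL ⟨SetLike.coe_mem _, (h.center_coe hL).1 h1⟩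
    have h3 := Z.mul_mem (mem_subgroupOf.1 hz) h2
    simpa using h3
  obtain ⟨H, hH⟩ := hSE.resolve_left hPne
  have hB : Invol.CentInt.IsBenderGrp (↥L ⧸ center ↥L) :=
    (Fus.Gold.bender_of_se (Fus.Gold.not_comm_quotient hL) hH).1
  have hZ : center ↥L = ⊥ := by
    by_contra hcen
    obtain ⟨⟨c, hc⟩, hc1⟩ := (center ↥L).ne_bot_iff_exists_ne_one.1 hcen
    have hc1' : c ≠ 1 := fun e => hc1 (Subtype.ext e)
    have hcLC : (c : X) ∈ L ⊓ centralizer (L : Set X) := ⟨c.2, (h.center_coe hL).1 hc⟩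
    have hcZ := h.cen_le_Z hL hcLC
    have h2 : 2 ∣ Nat.card (center ↥L) := by
      rw [← orderOf_eq_prime (p := 2) (Subtype.ext (by
        rw [SubmonoidClass.coe_pow, pow_two]; exact (h.shape.mem_iff c (h.shape.le hcZ)).2 hcZ)) hc1']
      exact Subgroup.orderOf_dvd_natCard _ hc
    have hS : ∀ Q : Sylow 2 ↥L, ¬ IsMulCommutative ↥(Q : Subgroup ↥L) := by
      intro Q hQ
      refine hc1' (Subtype.ext (h.cen_trivial hL (fun a ha b hb => ?_) hcLC))
      obtain ⟨g, hg⟩ := MulAction.exists_smul_eq ↥L Q P₀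
      have hmem : ∀ y : ↥L, (y : X) ∈ (T : Subgroup X) → g⁻¹ * y * g ∈ (Q : Subgroup ↥L) := by
        intro y hy
        have h1 := (hmemP₀ y).2 hy
        rw [← hg, Sylow.coe_subgroup_smul, mem_pointwise_smul_iff_inv_smul_mem] at h1
        simpa using h1
      have h1 : g⁻¹ * ⟨a, ha.2⟩ * g * (g⁻¹ * ⟨b, hb.2⟩ * g) = g⁻¹ * ⟨b, hb.2⟩ * g * (g⁻¹ * ⟨a, ha.2⟩ * g) :=
        congrArg Subtype.val (hQ.is_comm.comm ⟨_, hmem ⟨a, ha.2⟩ ha.1⟩ ⟨_, hmem ⟨b, hb.2⟩ hb.1⟩)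
      rw [show g⁻¹ * ⟨a, ha.2⟩ * g * (g⁻¹ * ⟨b, hb.2⟩ * g) = g⁻¹ * (⟨a, ha.2⟩ * ⟨b, hb.2⟩) * g by group,
        show g⁻¹ * ⟨b, hb.2⟩ * g * (g⁻¹ * ⟨a, ha.2⟩ * g) = g⁻¹ * (⟨b, hb.2⟩ * ⟨a, ha.2⟩) * g by group,
        mul_left_inj, mul_right_inj] at h1
      exact congrArg Subtype.val h1
    obtain ⟨z, hz, hzC⟩ := SetLike.not_le_iff_exists.1 (h.Z_not_le_centralizer hL)
    obtain ⟨⟨F, i, j, hF, ⟨e⟩⟩, -, -⟩ := Fus.Gold.sz_eight_of_even_center hL.2 hB hS
      ⟨⟨z, (h.Z_le hL hz).2⟩, Subtype.ext ((h.shape.mem_iff z (h.shape.le hz)).2 hz),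
        fun hcz => hzC ((h.center_coe hL).1 hcz)⟩ h2
    haveI : Group.IsPerfect ↥L := hL.2.1
    haveI : Group.IsPerfect ↥(⊤ : Subgroup ↥L) :=
      Group.IsPerfect.ofSurjective (f := (topEquiv (G := ↥L)).symm.toMonoidHom) topEquiv.symm.surjective
    have htop : center ↥(⊤ : Subgroup ↥L) ≠ ⊥ := fun e' => hcen (by
      rw [← Fus.Gold.center_map_mulEquiv (topEquiv (G := ↥L)), e', Subgroup.map_bot])
    let e' : ↥(⊤ : Subgroup ↥L) ⧸ center ↥(⊤ : Subgroup ↥L) ≃* ↥(Cfsg.Lie.Sz F 4) :=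
      (QuotientGroup.congr _ _ topEquiv (Fus.Gold.center_map_mulEquiv topEquiv)).trans e
    obtain ⟨u, hu, huu, hnc⟩ := Invol.CentInt.exists_outside_involution (A := (⊥ : Subgroup ↥L)) bot_le
      IsPGroup.of_bot ‹Group.IsPerfect ↥(⊤ : Subgroup ↥L)› (bot_sup_eq _) htop hF e' P₀
    refine hnc (mem_centralizer_iff.2 fun y hy => Subtype.ext ?_)
    exact h.shape.central y ((hmemP₀ y).1 hy) u
      ((h.shape.mem_iff u ((hmemP₀ u).1 hu)).1 (congrArg Subtype.val huu))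
  exact ⟨hZ, hB.congr ((QuotientGroup.quotientMulEquivOfEq hZ).trans QuotientGroup.quotientBot)⟩

theorem ncard_sq_one (P : Sylow 2 ↥L) (hP : (P : Subgroup ↥L) = (T : Subgroup X).subgroupOf L) :
    {x | x ∈ (P : Subgroup ↥L) ∧ x * x = 1}.ncard = q := by
  have h1 : {x | x ∈ (P : Subgroup ↥L) ∧ x * x = 1} = ((Z.subgroupOf L : Subgroup ↥L) : Set ↥L) := by
    ext x
    constructor
    · rintro ⟨hx, hxx⟩
      exact mem_subgroupOf.2 ((h.shape.mem_iff _ (mem_subgroupOf.1 (hP.le hx))).1 (congrArg Subtype.val hxx))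
    · intro hx
      have hxZ : (x : X) ∈ Z := mem_subgroupOf.1 hx
      exact ⟨hP.ge (mem_subgroupOf.2 (h.shape.le hxZ)),
        Subtype.ext ((h.shape.mem_iff _ (h.shape.le hxZ)).2 hxZ)⟩
  rw [h1, ← Nat.card_coe_set_eq]
  refine (Nat.card_congr (subgroupOfEquivOfLe ((h.Z_le hL).trans inf_le_right)).toEquiv).trans h.shape.cardZ

/-- The component contains the Sylow subgroup and is `PSU(3, q)`. -/
theorem component_psu : (T : Subgroup X) ≤ L ∧ ∃ (K : Type) (_ : Field K) (_ : Fintype K),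
    Fintype.card K = q ^ 2 ∧ Nonempty (↥L ≃* Cfsg.PSU 3 K q) := by
  classical
  haveI : Fact (Nat.Prime 2) := ⟨Nat.prime_two⟩
  obtain ⟨hcen, hB⟩ := h.bender hL
  obtain ⟨P, hP⟩ := exists_sylow (T := T) hL
  have hmemP : ∀ k : ↥L, k ∈ (P : Subgroup ↥L) ↔ (k : X) ∈ (T : Subgroup X) := fun k => by
    rw [hP, mem_subgroupOf]
  have hn := h.ncard_sq_one hL P hP
  have hE : Nat.card ↥(P : Subgroup ↥L) = Nat.card ↥((T : Subgroup X) ⊓ L) := by
    rw [hP, ← inf_subgroupOf_right, Nat.card_congr (subgroupOfEquivOfLe (inf_le_right : _ ⊓ L ≤ L)).toEquiv]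
  have h8 := h.shape.eight
  rcases hB with ⟨K, i1, i2, hc, h4, ⟨e⟩⟩ | ⟨K, i1, i2, r, hr, h4, hK, ⟨e⟩⟩ | ⟨K, i1, i2, m, hm, hK, ⟨e⟩⟩
  · exfalso
    haveI := hc
    obtain ⟨Q, hQ, hW⟩ := CentRank.sylow_sl (F := K)
    obtain ⟨ψ, hψ⟩ := CentRank.exists_iso_sylow e.symm Q P
    rw [← hψ, CentRank.ncard_sq_one_map, hW] at hn
    rw [← hψ, card_map_of_injective (f := ψ.toMonoidHom) ψ.injective, hQ, hn] at hE
    refine h.not_le_Z hL (eq_of_le_of_card_ge (h.Z_le hL) ?_).ge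
    rw [← hE, h.shape.cardZ]
  · obtain ⟨p, hc⟩ := CharP.exists K
    haveI : Fact p.Prime := ⟨CharP.char_is_prime K p⟩
    obtain rfl : p = 2 := Dickson.p_eq_two p (by rw [hK]; exact hr.pow_of_ne_zero two_ne_zero)
    obtain ⟨k, -, hk⟩ := FiniteField.card K 2
    obtain ⟨j, -, hj⟩ := (Nat.dvd_prime_pow Nat.prime_two).1
      (show r ∣ 2 ^ (k : ℕ) from hk ▸ hK ▸ dvd_pow_self r two_ne_zero)
    haveI : Fact (Fintype.card K = r ^ 2) := ⟨hK⟩
    have hj1 : 1 ≤ j := by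
      rcases j with _ | j
      · rw [pow_zero] at hj; omega
      · omega
    obtain ⟨a⟩ := Recog.SU3Two.sylow_psu (F := K) hj hj1 (P.mapSurjective (f := e.toMonoidHom) e.surjective)
    let b : Recog.SU3Two.UT K r ≃* ↥(P : Subgroup ↥L) :=
      a.trans ((P : Subgroup ↥L).equivMapOfInjective e.toMonoidHom e.injective).symm
    have hrq : r = q := by
      rw [← hn, ← card_utZ (F := K) (q := r), ← Nat.card_coe_set_eq]
      refine Nat.card_congr
        { toFun := fun u => ⟨(b u.1 : ↥L), (b u.1).2, ?_⟩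
          invFun := fun x => ⟨b.symm ⟨x.1, x.2.1⟩, ?_⟩
          left_inv := fun u => Subtype.ext (b.symm_apply_apply _)
          right_inv := fun x => Subtype.ext (congrArg Subtype.val (b.apply_symm_apply ⟨x.1, x.2.1⟩) :) }
      · rw [← Subgroup.coe_mul, ← map_mul, (ut_sq_iff u.1).2 u.2, map_one, Subgroup.coe_one]
      · refine (ut_sq_iff _).1 ?_
        rw [← map_mul, ← map_one b.symm]
        exact congrArg b.symm (Subtype.ext x.2.2)
    subst hrq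
    have hEq : (T : Subgroup X) ⊓ L = (T : Subgroup X) := by
      refine eq_of_le_of_card_ge inf_le_left (le_of_eq ?_)
      rw [← hE, h.shape.card, ← Nat.card_congr b.toEquiv, Recog.SU3Two.UT.card]
    exact ⟨hEq.ge.trans inf_le_right, K, i1, i2, hK, ⟨e⟩⟩
  · exfalso
    have hS : Suz.SzField K m := ⟨hm, hK⟩
    let e' : ↥(Cfsg.Sz K m) ≃* ↥L := (Suz.szEquiv hS).trans e.symm
    have hf := Fus.OTLine.SzFacts.congr e' (Fus.OTLine.szFacts_model hS)
    have hKq : Fintype.card K = q := by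
      rw [← hn]
      exact (hf.card P).symm
    have hcard : Nat.card ↥(P : Subgroup ↥L) = q ^ 2 := by
      obtain ⟨Q⟩ : Nonempty (Sylow 2 ↥(Cfsg.Sz K m)) := inferInstance
      obtain ⟨ψ, hψ⟩ := CentRank.exists_iso_sylow e' Q P
      rw [← hψ, card_map_of_injective (f := ψ.toMonoidHom) ψ.injective, (Suz.sylow_props hS Q).1, ← hK, hKq]
    have hle : (T : Subgroup X) ≤ L := by
      intro t ht
      have htN := h.le_normalizer hL ht
      set φ := L.normalizerMonoidHom ⟨t, htN⟩ with hφ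
      obtain ⟨k, hk⟩ := T.isPGroup' ⟨t, ht⟩
      have hk' : t ^ 2 ^ k = 1 := congrArg Subtype.val hk
      have hφk : φ ^ 2 ^ k = 1 := by
        rw [hφ, ← map_pow, show (⟨t, htN⟩ : ↥(normalizer (L : Set X))) ^ 2 ^ k = 1 from Subtype.ext hk', map_one]
      obtain ⟨b, hb⟩ := hf.inner φ ⟨k, hφk⟩
      have hinj : ∀ w : ↥L, MulAut.conj w = 1 → w = 1 := fun w hw => by
        have hwc : w ∈ center ↥L := mem_center_iff.2 fun y => by
          have h1 := DFunLike.congr_fun hw y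
          rw [MulAut.conj_apply, MulAut.one_apply, mul_inv_eq_iff_eq_mul] at h1
          exact h1.symm
        rwa [hcen, mem_bot] at hwc
      have hbk : b ^ 2 ^ k = 1 := hinj _ (by rw [map_pow, ← hb, hφk])
      have hval : ∀ y : ↥L, t * (y : X) * t⁻¹ = b * y * (b : X)⁻¹ := fun y =>
        congrArg Subtype.val (DFunLike.congr_fun hb y)
      have hbP : b ∈ normalizer ((P : Subgroup ↥L) : Set ↥L) := mem_normalizer_fintype fun y hy => by
        have hy' := (hmemP y).1 hy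
        refine (hmemP _).2 ?_
        show (b : X) * y * (b : X)⁻¹ ∈ (T : Subgroup X)
        rw [← hval y]
        exact mul_mem (mul_mem ht hy') (inv_mem ht)
      have hbP' : b ∈ (P : Subgroup ↥L) := by
        have hz : IsPGroup 2 ↥(zpowers b) := by
          rw [IsPGroup.iff_card]
          obtain ⟨i, -, hi⟩ := (Nat.dvd_prime_pow Nat.prime_two).1 (orderOf_dvd_of_pow_eq_one hbk)
          exact ⟨i, by rw [Nat.card_zpowers, hi]⟩
        have h1 := P.3 (hz.to_sup_of_normal_right' P.isPGroup' (zpowers_le.2 hbP)) le_sup_right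
        exact h1 ▸ mem_sup_left (mem_zpowers b)
      have hbT : (b : X) ∈ (T : Subgroup X) := (hmemP b).1 hbP'
      set c := (b : X)⁻¹ * t with hc
      have hcT : c ∈ (T : Subgroup X) := mul_mem (inv_mem hbT) ht
      have hcC : c ∈ centralizer (L : Set X) := mem_centralizer_iff.2 fun l hl => by
        have h1 := hval ⟨l, hl⟩
        calc l * c = (b : X)⁻¹ * ((b : X) * l * (b : X)⁻¹) * t := by rw [hc]; group
          _ = (b : X)⁻¹ * (t * l * t⁻¹) * t := by rw [h1]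
          _ = c * l := by rw [hc]; group
      have hmid : ∀ z ∈ centralizer (L : Set X), z ∈ Z → z = 1 := fun z hzC hz => by
        have h1 : (⟨z, (h.Z_le hL hz).2⟩ : ↥L) ∈ center ↥L := (h.center_coe hL).2 hzC
        rw [hcen, mem_bot] at h1
        exact congrArg Subtype.val h1
      have hc1 : c = 1 := hmid c hcC ((h.shape.mem_iff c hcT).1
        (hmid _ (mul_mem hcC hcC) (h.shape.sq c hcT)))
      rw [hc, inv_mul_eq_one] at hc1
      exact hc1 ▸ b.2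
    rw [inf_eq_left.2 hle, h.shape.card, hcard] at hE
    have := Nat.pow_lt_pow_right (show 1 < q by omega) (show 2 < 3 by omega)
    omega

end Hyp

end Cfsg.Agent.Invol.UnitarySylow
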