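import Cfsg.Agent.Lib.Invol.UnitarySylow.Component
import Cfsg.Agent.Lib.Invol.StabSeries
import Cfsg.Agent.Lib.Invol.Bender.Tools
import Cfsg.Agent.Lib.Transfer.Local.PLengthKey
import Cfsg.Agent.Lib.Recog.PguThree.Ident

/-!
# Groups with the Sylow 2-subgroups of `PSU(3, 2ⁿ)`

Either there is no component modulo the odd core, and the Sylow subgroup is normal there, or the only
component is `PSU(3, 2ⁿ)` and has odd index.
-/

set_option autoImplicit false
set_option linter.style.haveILetI false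
set_option linter.unusedSectionVars false

namespace Cfsg.Agent.Invol.UnitarySylow

open Subgroup Cfsg.Agent.Grp
open scoped commutatorElement Pointwise

universe u

variable {X : Type u} [Group X] [Finite X] {T : Sylow 2 X} {Z : Subgroup X} {q : ℕ}

/-- The Sylow subgroup is not abelian. -/
theorem Shape.exists_noncomm {S : Subgroup X} (h : Shape S Z q) : ∃ a ∈ S, ∃ b ∈ S, a * b ≠ b * a := by
  have hq := h.eight
  have hne : ¬ S ≤ Z := fun hle => by
    have h1 := card_le_of_le hle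
    rw [h.card, h.cardZ] at h1
    have h2 := Nat.pow_lt_pow_right (show 1 < q by omega) (show 1 < 3 by omega)
    rw [pow_one] at h2
    omega
  obtain ⟨x, hx, hxZ⟩ := SetLike.not_le_iff_exists.1 hne
  obtain ⟨⟨z, hz⟩, hz1⟩ := (Z.ne_bot_iff_exists_ne_one).1 fun e => by
    have h1 := h.cardZ
    rw [e, Subgroup.card_bot] at h1
    omega
  obtain ⟨y, hy, hxy⟩ := h.full x hx hxZ z hz
  exact ⟨x, hx, y, hy, fun e => hz1 (Subtype.ext (hxy ▸ commutatorElement_eq_one_iff_mul_comm.2 e))⟩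

/-- Without components the Sylow subgroup is normal. -/
theorem Hyp.normal_of_layer (h : Hyp T Z q) (hE : Cfsg.layer X = ⊥) : (T : Subgroup X).Normal := by
  haveI : Fact (Nat.Prime 2) := ⟨Nat.prime_two⟩
  haveI hRn : (Cfsg.pCore 2 X).Normal := pCore_isNormal
  set R := Cfsg.pCore 2 X
  have hC : centralizer (R : Set X) ≤ R := by
    have h1 := centralizer_fitting_le_of_layer_eq_bot hE
    rwa [fitting_eq_pCore (p := 2) h.core] at h1
  have hRT : R ≤ (T : Subgroup X) := pCore_le_sylow T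
  have hZR : Z ≤ R := fun z hz => hC (mem_centralizer_iff.2 fun r hr => h.shape.central r (hRT hr) z hz)
  haveI hZn : Z.Normal := ⟨fun z hz g => by
    have h1 := hRn.conj_mem z (hZR hz) g
    refine (h.shape.mem_iff _ (hRT h1)).1 ?_
    rw [show g * z * g⁻¹ * (g * z * g⁻¹) = g * (z * z) * g⁻¹ by group,
      (h.shape.mem_iff z (hRT (hZR hz))).2 hz, mul_one, mul_inv_cancel]⟩
  have hTst : (T : Subgroup X) ≤ stab R := by
    intro t ht U V hUV hUR u hu
    haveI hUn := hUV.2.1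
    haveI hVn := hUV.2.2.1
    rcases hUV.2.2.2 (U ⊓ Z ⊔ V) inferInstance le_sup_right (sup_le inf_le_left hUV.1.le) with h1 | h1
    · refine h1.le (mem_sup_left ⟨U.mul_mem (hUn.conj_mem u hu t) (U.inv_mem hu), ?_⟩)
      rw [← commutatorElement_def]
      exact h.shape.comm t ht u (hRT (hUR hu))
    · rw [← h1, mem_sup_of_normal_left] at hu
      obtain ⟨z, hz, v, hv, rfl⟩ := hu
      rw [show t * (z * v) * t⁻¹ * (z * v)⁻¹ = (t * z) * (v * t⁻¹ * v⁻¹) * z⁻¹ by group,
        h.shape.central t ht z hz.2, show z * t * (v * t⁻¹ * v⁻¹) * z⁻¹ = z * (t * v * t⁻¹ * v⁻¹) * z⁻¹ by group]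
      exact hVn.conj_mem _ (V.mul_mem (hVn.conj_mem v hv t) (V.inv_mem hv)) z
  have h2 : stab R ≤ R := stab_le_pCore (A := R) (Z := Z) le_rfl hZR
    ((commutator_le).2 fun a ha b hb => h.shape.comm a (hRT ha) b (hRT hb)) inf_le_left hC
  exact le_antisymm hRT (hTst.trans h2) ▸ hRn

/-- A component is the only one. -/
theorem Hyp.component_normal (h : Hyp T Z q) {L : Subgroup X} (hL : Cfsg.IsComponent L) : L.Normal := by
  refine ⟨fun l hl g => ?_⟩
  have hL' := IsComponent.conj hL g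
  have hmem : g * l * g⁻¹ ∈ MulAut.conj g • L := by rw [← map_conj_eq_smul]; exact ⟨l, hl, rfl⟩
  by_contra hne
  have hne' : L ≠ MulAut.conj g • L := fun e => hne (e ▸ hmem)
  obtain ⟨a, ha, b, hb, hab⟩ := h.shape.exists_noncomm
  exact hab (mem_centralizer_iff.1 ((IsComponent.commute hL hL' hne') ((h.component_psu hL).1 hb)) a
    ((h.component_psu hL').1 ha))

/-- The structure theorem, given the strongly closed abelian theorem for simple groups. -/
theorem structure_of_gold {G : Type u} [Group G] [Finite G]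
    (gold : ∀ (L : Type u) [Group L] [Finite L], IsSimpleGroup L → ¬ IsMulCommutative L → Fus.Gold.Conclusion L)
    (n : ℕ) (hn : 3 ≤ n) {F : Type*} [Field F] [Fintype F] (hF : Fintype.card F = 4 ^ n)
    (S : Sylow 2 G) (P : Sylow 2 (Cfsg.PSU 3 F (2 ^ n)))
    (hS : Nonempty (↥(S : Subgroup G) ≃* ↥(P : Subgroup (Cfsg.PSU 3 F (2 ^ n))))) :
    (Group.IsSolvable G ∧ Cfsg.PLengthLE 2 1 G) ∨
      ∃ N : Subgroup (G ⧸ Cfsg.oddCore G), N.Normal ∧ Odd N.index ∧ Nonempty (↥N ≃* Cfsg.PSU 3 F (2 ^ n)) := by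
  haveI : Fact (Nat.Prime 2) := ⟨Nat.prime_two⟩
  haveI hOn : (Cfsg.pPrimeCore 2 G).Normal := pPrimeCore_isNormal
  show _ ∨ ∃ N : Subgroup (G ⧸ Cfsg.pPrimeCore 2 G), _
  set O := Cfsg.pPrimeCore 2 G with hO
  set f := QuotientGroup.mk' O with hf
  set T : Sylow 2 (G ⧸ O) := S.mapSurjective (f := f) (QuotientGroup.mk'_surjective _)
  obtain ⟨e⟩ := hS
  have hinj : Function.Injective (f.subgroupMap (S : Subgroup G)) := by
    rw [injective_iff_map_eq_one]
    intro s hs
    have h1 : (s : G) ∈ O := (QuotientGroup.eq_one_iff (s : G)).1 (congrArg Subtype.val hs)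
    have h2 : (S : Subgroup G) ⊓ O = ⊥ := by
      refine Grp.inf_eq_bot_of_coprime ?_
      obtain ⟨m, hm⟩ := IsPGroup.iff_card.1 S.isPGroup'
      rw [hm]
      exact ((pPrimeCore_coprime (p := 2) (G := G)).symm.pow_left m)
    exact Subtype.ext (mem_bot.1 (h2 ▸ (⟨s.2, h1⟩ : (s : G) ∈ (S : Subgroup G) ⊓ O)))
  let a : ↥(S : Subgroup G) ≃* ↥(T : Subgroup (G ⧸ O)) :=
    MulEquiv.ofBijective (f.subgroupMap (S : Subgroup G)) ⟨hinj, f.subgroupMap_surjective _⟩
  obtain ⟨Z, hshape⟩ := exists_shape hn hF (T : Subgroup (G ⧸ O)) P (a.symm.trans e)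
  have h : Hyp T Z (2 ^ n) := ⟨hshape, pPrimeCore_quotient_eq_bot (p := 2), gold⟩
  have hodd : ∀ {M : Subgroup (G ⧸ O)}, (T : Subgroup (G ⧸ O)) ≤ M → Odd M.index := fun hM => by
    rw [Nat.odd_iff, ← Nat.two_dvd_ne_zero]
    exact fun h2 => T.not_dvd_index (h2.trans (Subgroup.index_dvd_of_le hM))
  by_cases hcomp : ∃ L : Subgroup (G ⧸ O), Cfsg.IsComponent L
  · obtain ⟨L, hL⟩ := hcomp
    obtain ⟨hTL, K, i1, i2, hK, ⟨d⟩⟩ := h.component_psu hL
    refine Or.inr ⟨L, h.component_normal hL, hodd hTL, ?_⟩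
    obtain ⟨φ⟩ := Recog.PguThree.psu_congr 3 (2 ^ n) (FiniteField.ringEquivOfCardEq (K := K) (K' := F)
      (by rw [hK, hF, ← pow_mul, mul_comm n 2, pow_mul]; norm_num))
    exact ⟨d.trans φ⟩
  · have hE : Cfsg.layer (G ⧸ O) = ⊥ := by
      refine sSup_eq_bot.2 fun K hK => ?_
      exact absurd ⟨K, hK⟩ hcomp
    haveI hTn : (T : Subgroup (G ⧸ O)).Normal := h.normal_of_layer hE
    refine Or.inl ⟨?_, ?_⟩
    · haveI : Group.IsSolvable ↥(T : Subgroup (G ⧸ O)) := by
        haveI : Group.IsNilpotent ↥(T : Subgroup (G ⧸ O)) := T.isPGroup'.isNilpotent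
        infer_instance
      haveI : Group.IsSolvable ((G ⧸ O) ⧸ (T : Subgroup (G ⧸ O))) := Cfsg.Agent.S0205.result (by
        rw [← index_eq_card]; exact hodd le_rfl)
      haveI : Group.IsSolvable (G ⧸ O) := Group.isSolvable_of_ker_le_range (T : Subgroup (G ⧸ O)).subtype
        (QuotientGroup.mk' (T : Subgroup (G ⧸ O))) (by simp)
      haveI : Group.IsSolvable O := Invol.Bender.solvable_of_odd (Nat.coprime_two_right.1 pPrimeCore_coprime)
      exact Group.isSolvable_of_ker_le_range O.subtype f (by simp [hf])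
    · have h0 : O ≤ uSer 2 G (2 * 0 + 1) := le_uSer_succ_even Even.zero hOn (S := ⊥) bot_le (by
        rw [relIndex_bot_left]; exact Nat.prime_two.coprime_iff_not_dvd.1 (pPrimeCore_coprime (p := 2) (G := G)).symm)
      exact pLengthLE_extension O (a := 0) h0
        (Transfer.Loc.pLengthLE_one_of_normal T.isPGroup' T.not_dvd_index)

end Cfsg.Agent.Invol.UnitarySylow
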