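import Cfsg.Agent.Lib.Recog.SU3Sylow

/-!
# Sylow 2-subgroups of `PSU(3, 2ⁿ)`: the facts used

The involutions and `1` form the centre `Z` of order `q`, which contains all squares and commutators; a
non-central element has all of `Z` as commutators and its centraliser is abelian.
-/

set_option autoImplicit false
set_option linter.style.haveILetI false
set_option linter.unusedSectionVars false

namespace Cfsg.Agent.Invol.UnitarySylow

open Subgroup
open scoped commutatorElement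

universe u

/-- The facts used about a Sylow 2-subgroup `S` of `PSU(3, q)`, with involutions `Z`. -/
structure Shape {X : Type u} [Group X] (S Z : Subgroup X) (q : ℕ) : Prop where
  eight : 8 ≤ q
  card : Nat.card S = q ^ 3
  cardZ : Nat.card Z = q
  le : Z ≤ S
  mem_iff : ∀ s ∈ S, s * s = 1 ↔ s ∈ Z
  central : ∀ s ∈ S, ∀ z ∈ Z, s * z = z * s
  sq : ∀ s ∈ S, s * s ∈ Z
  sqrt : ∀ z ∈ Z, ∃ s ∈ S, s * s = z
  comm : ∀ x ∈ S, ∀ y ∈ S, ⁅x, y⁆ ∈ Z
  full : ∀ x ∈ S, x ∉ Z → ∀ z ∈ Z, ∃ y ∈ S, ⁅x, y⁆ = z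
  cen_comm : ∀ x ∈ S, x ∉ Z → ∀ a ∈ S, ∀ b ∈ S, x * a = a * x → x * b = b * x → a * b = b * a

section Model

open Cfsg.Agent.Recog.SU3Two

variable {F : Type*} [Field F] [Fintype F] [CharP F 2] {q : ℕ} [hF : Fact (Fintype.card F = q ^ 2)]

/-- The central elements of the model. -/
def utZ : Subgroup (UT F q) where
  carrier := {u | u.a = 0}
  one_mem' := UT.one_a
  mul_mem' {u v} hu hv := by
    show (u * v).a = 0
    rw [UT.mul_a, show u.a = 0 from hu, show v.a = 0 from hv, add_zero]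
  inv_mem' {u} hu := hu

theorem mem_utZ {u : UT F q} : u ∈ utZ ↔ u.a = 0 := Iff.rfl

theorem card_utZ : Nat.card (utZ : Subgroup (UT F q)) = q := by
  refine Eq.trans ?_ (card_Fx (F := F) (q := q))
  refine Nat.card_congr
    { toFun := fun u => ⟨u.1.b, ?_⟩
      invFun := fun k => ⟨UT.z k, rfl⟩
      left_inv := fun u => Subtype.ext (UT.ext (show (0 : F) = u.1.a from u.2.symm) rfl)
      right_inv := fun k => rfl }
  have h := u.1.eq
  rw [show u.1.a = 0 from u.2, zero_mul, CharTwo.add_eq_zero] at h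
  exact h.symm

theorem ut_sq_iff (u : UT F q) : u * u = 1 ↔ u.a = 0 := by
  constructor
  · intro h
    have h1 := congrArg UT.b h
    rw [UT.mul_b, CharTwo.add_self_eq_zero, zero_add, UT.one_b] at h1
    rcases mul_eq_zero.1 h1 with h2 | h2
    · exact eq_zero_of_pow_eq_zero h2
    · exact h2
  · intro h
    refine UT.ext ?_ ?_
    · rw [UT.mul_a, CharTwo.add_self_eq_zero]; rfl
    · rw [UT.mul_b, h, CharTwo.add_self_eq_zero, mul_zero, add_zero]; rfl

theorem ut_sqrt (hq : Even q) (u : UT F q) (hu : u.a = 0) : ∃ v : UT F q, v * v = u := by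
  obtain ⟨j, rfl⟩ := hq
  have hb : u.b ^ (j + j) = u.b := by
    have h := u.eq
    rw [hu, zero_mul, CharTwo.add_eq_zero] at h
    exact h.symm
  obtain ⟨v, hv⟩ := UT.exists_mk (q := j + j) (u.b ^ j)
  refine ⟨v, UT.ext ?_ ?_⟩
  · rw [UT.mul_a, CharTwo.add_self_eq_zero, hu]
  · have h1 : (u.b ^ j) ^ (j + j) = u.b ^ j := by rw [← pow_mul, mul_comm, pow_mul, hb]
    rw [UT.mul_b, CharTwo.add_self_eq_zero, zero_add, hv, h1, ← pow_add, hb]

theorem ut_comm (u v : UT F q) : ⁅u, v⁆.a = 0 := by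
  have hinv : ∀ w : UT F q, (w⁻¹).a = w.a := fun w => rfl
  rw [commutatorElement_def, UT.mul_a, UT.mul_a, UT.mul_a, hinv, hinv]
  linear_combination CharTwo.add_self_eq_zero u.a + CharTwo.add_self_eq_zero v.a

theorem ut_full (u : UT F q) (hu : u.a ≠ 0) (k : UT F q) (hk : k.a = 0) : ∃ v : UT F q, ⁅u, v⁆ = k := by
  obtain ⟨x, hx⟩ := exists_trq_one (F := F) (q := q)
  have hkq : k.b ^ q = k.b := by
    have h := k.eq
    rw [hk, zero_mul, CharTwo.add_eq_zero] at h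
    exact h.symm
  obtain ⟨v, hv⟩ := UT.exists_mk (q := q) (x * k.b / u.a ^ q)
  refine ⟨v, ?_⟩
  have hne : u.a ^ q ≠ 0 := pow_ne_zero _ hu
  have key : u * v = k * (v * u) := by
    refine UT.ext ?_ ?_
    · rw [UT.mul_a, UT.mul_a, UT.mul_a, hk, zero_add, add_comm]
    · simp only [UT.mul_b, UT.mul_a, hk, pq_zero, zero_mul, add_zero]
      have h1 : u.a ^ q * v.a = x * k.b := by rw [hv]; field_simp
      have h2 : v.a ^ q * u.a = x ^ q * k.b := by
        have h3 := congrArg (· ^ q) h1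
        simp only [mul_pow, pq_pq, hkq] at h3
        linear_combination h3
      linear_combination h1 + k.b * hx - h2 - (x ^ q * k.b) * CharTwo.two_eq_zero (R := F)
  rw [commutatorElement_def, key]
  group

theorem ut_cen_comm (x u v : UT F q) (hx : x.a ≠ 0) (hu : x * u = u * x) (hv : x * v = v * x) : u * v = v * u := by
  rw [UT.mul_comm_iff] at hu hv ⊢
  have hne : x.a ^ q ≠ 0 := pow_ne_zero _ hx
  have h : x.a ^ q * x.a * (u.a ^ q * v.a - v.a ^ q * u.a) = 0 := by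
    linear_combination (u.a ^ q * x.a) * hv - (v.a ^ q * x.a) * hu
  rcases mul_eq_zero.1 h with h1 | h1
  · rcases mul_eq_zero.1 h1 with h2 | h2
    exacts [absurd h2 hne, absurd h2 hx]
  · exact sub_eq_zero.1 h1

end Model

/-- A subgroup isomorphic to a Sylow 2-subgroup of `PSU(3, 2ⁿ)`. -/
theorem exists_shape {X : Type u} [Group X] {F : Type*} [Field F] [Fintype F] {n : ℕ} (hn : 3 ≤ n)
    (hF : Fintype.card F = 4 ^ n) (S : Subgroup X) (P : Sylow 2 (Cfsg.PSU 3 F (2 ^ n)))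
    (e : ↥S ≃* ↥(P : Subgroup (Cfsg.PSU 3 F (2 ^ n)))) : ∃ Z, Shape S Z (2 ^ n) := by
  haveI : CharP F 2 := Recog.SU3Two.charP_two (m := 2 * n) (by rw [hF, pow_mul]; norm_num)
  haveI : Fact (Fintype.card F = (2 ^ n) ^ 2) := ⟨by rw [hF, ← pow_mul, mul_comm n 2, pow_mul]; norm_num⟩
  obtain ⟨a⟩ := Recog.SU3Two.sylow_psu (F := F) (q := 2 ^ n) rfl (by omega) P
  let f : Recog.SU3Two.UT F (2 ^ n) ≃* ↥S := a.trans e.symm
  let φ : Recog.SU3Two.UT F (2 ^ n) →* X := S.subtype.comp f.toMonoidHom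
  have hφ : Function.Injective φ := S.subtype_injective.comp f.injective
  have hφS : ∀ u, φ u ∈ S := fun u => (f u).2
  have hsur : ∀ s ∈ S, ∃ u, φ u = s := fun s hs => ⟨f.symm ⟨s, hs⟩, by
    show ((f (f.symm ⟨s, hs⟩) : ↥S) : X) = s
    rw [f.apply_symm_apply]⟩
  have hmem : ∀ u, φ u ∈ utZ.map φ ↔ u.a = 0 := fun u =>
    ⟨fun ⟨w, hw, e⟩ => hφ e ▸ hw, fun h => ⟨u, h, rfl⟩⟩
  have heven : Even (2 ^ n) := Nat.even_pow.2 ⟨even_two, by omega⟩
  refine ⟨utZ.map φ, ⟨?_, ?_, ?_, ?_, ?_, ?_, ?_, ?_, ?_, ?_, ?_⟩⟩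
  · calc 8 = 2 ^ 3 := rfl
      _ ≤ _ := Nat.pow_le_pow_right two_pos hn
  · rw [← Nat.card_congr f.toEquiv, Recog.SU3Two.UT.card]
  · rw [card_map_of_injective hφ, card_utZ]
  · rintro _ ⟨u, -, rfl⟩
    exact hφS u
  · intro s hs
    obtain ⟨u, rfl⟩ := hsur s hs
    rw [hmem, ← ut_sq_iff, ← map_mul, ← map_one φ]
    exact hφ.eq_iff
  · rintro s hs _ ⟨w, hw, rfl⟩
    obtain ⟨u, rfl⟩ := hsur s hs
    rw [← map_mul, ← map_mul, mem_center_iff.1 ((Recog.SU3Two.UT.mem_center_iff w).2 hw) u]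
  · intro s hs
    obtain ⟨u, rfl⟩ := hsur s hs
    rw [← map_mul, hmem, Recog.SU3Two.UT.mul_a, CharTwo.add_self_eq_zero]
  · rintro _ ⟨w, hw, rfl⟩
    obtain ⟨v, hv⟩ := ut_sqrt heven w hw
    exact ⟨φ v, hφS v, by rw [← map_mul, hv]⟩
  · intro x hx y hy
    obtain ⟨u, rfl⟩ := hsur x hx
    obtain ⟨v, rfl⟩ := hsur y hy
    rw [← map_commutatorElement, hmem]
    exact ut_comm u v
  · rintro x hx hxZ _ ⟨k, hk, rfl⟩
    obtain ⟨u, rfl⟩ := hsur x hx
    obtain ⟨v, hv⟩ := ut_full u (fun h => hxZ ((hmem u).2 h)) k hk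
    exact ⟨φ v, hφS v, by rw [← map_commutatorElement, hv]⟩
  · intro x hx hxZ y hy z hz hxy hxz
    obtain ⟨u, rfl⟩ := hsur x hx
    obtain ⟨v, rfl⟩ := hsur y hy
    obtain ⟨w, rfl⟩ := hsur z hz
    rw [← map_mul, ← map_mul] at hxy hxz
    rw [← map_mul, ← map_mul, ut_cen_comm u v w (fun h => hxZ ((hmem u).2 h)) (hφ hxy) (hφ hxz)]

end Cfsg.Agent.Invol.UnitarySylow
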